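import Mathlib
import Groth.Agent.S2469
import Groth.Agent.EGA41Lib.FieldFS

/-!
# Imperfection and differentials across a finite extension of a separable extension
-/

set_option autoImplicit false
set_option backward.isDefEq.respectTransparency false
set_option backward.isDefEq.respectTransparency.types false

universe u

open TensorProduct KaehlerDifferential

namespace H1ImpCpl

variable (k M L : Type u) [Field k] [Field M] [Field L] [Algebra k M] [Algebra M L] [Algebra k L]
  [IsScalarTower k M L]

/-- `L ⊗ Ω_k → L ⊗ Ω_M`. -/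
noncomputable def a : L ⊗[k] Ω[k⁄ℤ] →ₗ[L] L ⊗[M] Ω[M⁄ℤ] :=
  (mapBaseChange ℤ k M).baseChange L ∘ₗ
    (AlgebraTensorModule.cancelBaseChange k M L L Ω[k⁄ℤ]).symm.toLinearMap

theorem a_tmul_D (l : L) (c : k) : a k M L (l ⊗ₜ D ℤ k c) = l ⊗ₜ D ℤ M (algebraMap k M c) := by
  simp [a]

theorem g_comp_a : (mapBaseChange ℤ M L).comp (a k M L) = mapBaseChange ℤ k L := by
  refine LinearMap.ext fun z => ?_
  induction z using TensorProduct.induction_on with
  | zero => simp
  | add x y hx hy => rw [map_add, map_add, hx, hy]
  | tmul l w =>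
    have hw : w ∈ Submodule.span k (Set.range (D ℤ k)) := (span_range_derivation ℤ k).symm ▸ Submodule.mem_top
    induction hw using Submodule.span_induction generalizing l with
    | mem d hd =>
      obtain ⟨c, rfl⟩ := hd
      rw [LinearMap.comp_apply, a_tmul_D, mapBaseChange_tmul, mapBaseChange_tmul, map_D, map_D,
        ← IsScalarTower.algebraMap_apply]
    | zero => simp
    | add x y _ _ hx hy => rw [tmul_add, map_add, map_add, hx, hy]
    | smul c x _ hx => rw [← smul_tmul, hx]

/-- The complementary part of `L ⊗ Ω_M`. -/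
abbrev Q := (L ⊗[M] Ω[M⁄ℤ]) ⧸ LinearMap.range (a k M L)

variable [Algebra.IsGeometricallyReduced k M]

theorem a_injective : Function.Injective (a k M L) := by
  haveI := Groth.Agent.EGA41Lib.FieldFS.formallySmooth_of_isGeometricallyReduced k M
  have hinj : Function.Injective (mapBaseChange ℤ k M) := by
    rw [injective_iff_map_eq_zero]
    intro x hx
    obtain ⟨y, rfl⟩ := (Algebra.H1Cotangent.exact_δ_mapBaseChange ℤ k M x).1 hx
    rw [Subsingleton.elim y 0, map_zero]
  exact (Module.Flat.lTensor_preserves_injective_linearMap (M := L) (mapBaseChange ℤ k M) hinj).comp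
    (LinearEquiv.injective _)

variable [FiniteDimensional M L]

include M in
theorem finite_imperfection :
    Module.Finite L (LinearMap.ker (mapBaseChange ℤ k L)) := by
  haveI : Module.Finite L (LinearMap.ker (mapBaseChange ℤ M L)) := (Groth.Agent.S2469.result (K := M) (L := L)).2.1
  let f : LinearMap.ker (mapBaseChange ℤ k L) →ₗ[L] LinearMap.ker (mapBaseChange ℤ M L) :=
    (a k M L).restrict fun x hx => by
      rw [LinearMap.mem_ker, ← LinearMap.comp_apply, g_comp_a]
      exact hx
  haveI : IsNoetherian L (LinearMap.ker (mapBaseChange ℤ M L)) :=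
    isNoetherian_of_isNoetherianRing_of_finite L ↥(LinearMap.ker (mapBaseChange ℤ M L))
  exact Module.Finite.of_injective f fun x y h => Subtype.ext (a_injective k M L (congrArg Subtype.val h))

theorem finrank_eq [Module.Finite L Ω[L⁄k]] :
    Module.Finite L (Q k M L) ∧ Module.finrank L Ω[L⁄k] =
      Module.finrank L (Q k M L) + Module.finrank L (LinearMap.ker (mapBaseChange ℤ k L)) := by
  obtain ⟨hf1, hf2, hcar⟩ := Groth.Agent.S2469.result (K := M) (L := L)
  haveI := hf1
  haveI : Module.Finite L (LinearMap.ker (mapBaseChange ℤ M L)) := hf2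
  haveI := finite_imperfection k M L
  have hc : Module.finrank L Ω[L⁄M] = Module.finrank L (LinearMap.ker (mapBaseChange ℤ M L)) := by
    have h0 : Algebra.trdeg M L = 0 := trdeg_eq_zero
    rw [h0, map_zero] at hcar
    have : (Module.finrank L Ω[L⁄M] : ℤ) - Module.finrank L (LinearMap.ker (mapBaseChange ℤ M L)) = 0 := hcar
    omega
  set g := mapBaseChange ℤ M L
  let q : L ⊗[M] Ω[M⁄ℤ] →ₗ[L] Ω[L⁄k] := (KaehlerDifferential.map ℤ k L L).comp g
  have hq0 : LinearMap.range (a k M L) ≤ LinearMap.ker q := by
    rintro _ ⟨x, rfl⟩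
    rw [LinearMap.mem_ker]
    show KaehlerDifferential.map ℤ k L L (g (a k M L x)) = 0
    rw [show g (a k M L x) = mapBaseChange ℤ k L x from LinearMap.congr_fun (g_comp_a k M L) x]
    exact (exact_mapBaseChange_map ℤ k L _).2 ⟨x, rfl⟩
  have hqker : LinearMap.ker q = LinearMap.ker g ⊔ LinearMap.range (a k M L) := by
    refine le_antisymm (fun x hx => ?_) (sup_le (fun x hx => ?_) hq0)
    · obtain ⟨y, hy⟩ := (exact_mapBaseChange_map ℤ k L (g x)).1 hx
      rw [← g_comp_a k M L, LinearMap.comp_apply] at hy
      rw [Submodule.mem_sup]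
      refine ⟨x - a k M L y, ?_, a k M L y, ⟨y, rfl⟩, sub_add_cancel _ _⟩
      rw [LinearMap.mem_ker, map_sub, sub_eq_zero]
      exact hy.symm
    · rw [LinearMap.mem_ker] at hx ⊢
      show KaehlerDifferential.map ℤ k L L (g x) = 0
      rw [hx, map_zero]
  let qb : Q k M L →ₗ[L] Ω[L⁄k] := (LinearMap.range (a k M L)).liftQ q hq0
  have hkerqb : LinearMap.ker qb = (LinearMap.ker g ⊔ LinearMap.range (a k M L)).map (LinearMap.range (a k M L)).mkQ := by
    rw [Submodule.ker_liftQ, hqker]
  let r : LinearMap.ker g →ₗ[L] Q k M L :=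
    (LinearMap.range (a k M L)).mkQ.comp (LinearMap.ker g).subtype
  have hrrange : LinearMap.range r = LinearMap.ker qb := by
    rw [hkerqb, Submodule.map_sup, LinearMap.range_comp, Submodule.range_subtype]
    refine (sup_eq_left.2 ?_).symm
    rintro _ ⟨x, hx, rfl⟩
    rw [Submodule.mkQ_apply, (Submodule.Quotient.mk_eq_zero _).2 hx]
    exact zero_mem _
  have hrker : Module.finrank L (LinearMap.ker r) = Module.finrank L (LinearMap.ker (mapBaseChange ℤ k L)) := by
    let f : LinearMap.ker (mapBaseChange ℤ k L) →ₗ[L] LinearMap.ker r :=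
      LinearMap.codRestrict _ ((a k M L).restrict (q := LinearMap.ker g) fun x hx => by
        rw [LinearMap.mem_ker, ← LinearMap.comp_apply, g_comp_a]
        exact hx) fun x => by
        rw [LinearMap.mem_ker]
        exact (Submodule.Quotient.mk_eq_zero _).2 ⟨x.1, rfl⟩
    refine (LinearEquiv.ofBijective f ⟨fun x y h => ?_, fun y => ?_⟩).finrank_eq.symm
    · exact Subtype.ext (a_injective k M L (congrArg (fun z : LinearMap.ker r => (z.1 : L ⊗[M] Ω[M⁄ℤ])) h))
    · obtain ⟨x, hx⟩ := (Submodule.Quotient.mk_eq_zero _).1 (show Submodule.Quotient.mk (y.1 : L ⊗[M] Ω[M⁄ℤ]) = 0 from y.2)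
      refine ⟨⟨x, ?_⟩, Subtype.ext (Subtype.ext hx)⟩
      rw [LinearMap.mem_ker, ← g_comp_a k M L, LinearMap.comp_apply, hx]
      exact y.1.2
  haveI : Module.Finite L (LinearMap.ker qb) := hrrange ▸ Module.Finite.range r
  haveI hQ : Module.Finite L (Q k M L) :=
    haveI : Module.Finite L ((Q k M L) ⧸ LinearMap.ker qb) := Module.Finite.equiv qb.quotKerEquivRange.symm
    Module.Finite.of_submodule_quotient (LinearMap.ker qb)
  refine ⟨hQ, ?_⟩
  have hsurj : Function.Surjective (KaehlerDifferential.map k M L L) :=
    KaehlerDifferential.map_surjective k M L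
  have hrange : LinearMap.ker (KaehlerDifferential.map k M L L) = LinearMap.range qb := by
    rw [Submodule.range_liftQ]
    refine le_antisymm (fun x hx => ?_) ?_
    · obtain ⟨y, rfl⟩ := KaehlerDifferential.map_surjective ℤ k L x
      have hy : KaehlerDifferential.map ℤ M L L y = 0 := by
        have hcomp : ∀ y, KaehlerDifferential.map k M L L (KaehlerDifferential.map ℤ k L L y) =
            KaehlerDifferential.map ℤ M L L y := fun y => by
          have hy : y ∈ Submodule.span L (Set.range (D ℤ L)) := (span_range_derivation ℤ L).symm ▸ Submodule.mem_top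
          induction hy using Submodule.span_induction with
          | mem d hd => obtain ⟨c, rfl⟩ := hd; simp [map_D]
          | zero => simp
          | add x y _ _ hx hy => simp only [map_add, hx, hy]
          | smul c x _ hx => simp only [map_smul, hx]
        rw [← hcomp]; exact hx
      obtain ⟨z, rfl⟩ := (exact_mapBaseChange_map ℤ M L y).1 hy
      exact ⟨z, rfl⟩
    · rintro _ ⟨z, rfl⟩
      rw [LinearMap.mem_ker]
      show KaehlerDifferential.map k M L L (KaehlerDifferential.map ℤ k L L (g z)) = 0
      have h1 : KaehlerDifferential.map ℤ M L L (g z) = 0 := (exact_mapBaseChange_map ℤ M L _).2 ⟨z, rfl⟩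
      refine Eq.trans ?_ h1
      generalize g z = w
      have hy : w ∈ Submodule.span L (Set.range (D ℤ L)) := (span_range_derivation ℤ L).symm ▸ Submodule.mem_top
      induction hy using Submodule.span_induction with
      | mem d hd => obtain ⟨c, rfl⟩ := hd; simp [map_D]
      | zero => simp
      | add x y _ _ hx hy => simp only [map_add, hx, hy]
      | smul c x _ hx => simp only [map_smul, hx]
  have e1 := (KaehlerDifferential.map k M L L).finrank_range_add_finrank_ker
  rw [LinearMap.range_eq_top.2 hsurj, finrank_top, hrange] at e1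
  have e2 := qb.finrank_range_add_finrank_ker
  have e3 := LinearMap.finrank_range_add_finrank_ker (V := LinearMap.ker g) r
  rw [hrrange, hrker] at e3
  omega

end H1ImpCpl
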