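import Mathlib
import Groth.Agent.H1ImpCpl.Basic
import Groth.Agent.H1JacAbs.Key
import Groth.Agent.Cohen4.Struct
import Groth.Agent.S4551

/-!
# Differentials of fraction fields of finite extensions of power series rings
-/

set_option autoImplicit false
set_option backward.isDefEq.respectTransparency false
set_option backward.isDefEq.respectTransparency.types false

universe u

open TensorProduct KaehlerDifferential

namespace H1ImpCpl

variable (p : ℕ) [Fact p.Prime] {k : Type u} [Field k] [CharP k p] {n : ℕ}

theorem finiteDimensional_range (hk : (frobenius k p).Finite) :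
    FiniteDimensional (frobenius k p).fieldRange k := by
  have h1 : ((algebraMap (frobenius k p).fieldRange k).comp (frobenius k p).rangeRestrictField).Finite := by
    have h2 : (algebraMap (frobenius k p).fieldRange k).comp (frobenius k p).rangeRestrictField = frobenius k p :=
      RingHom.ext fun _ => rfl
    rw [h2]
    exact hk
  exact RingHom.finite_algebraMap.1 (RingHom.Finite.of_comp_finite h1)

/-- A subring containing the constants, the variables and the `p`th powers is everything. -/
theorem mem_of_generators [FiniteDimensional (frobenius k p).fieldRange k]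
    (S : Subring (MvPowerSeries (Fin n) k)) (hC : ∀ c, MvPowerSeries.C c ∈ S) (hX : ∀ j, MvPowerSeries.X j ∈ S)
    (hpow : ∀ h, h ^ p ∈ S) (g : MvPowerSeries (Fin n) k) : g ∈ S := by
  classical
  haveI : ExpChar k p := .prime Fact.out
  let bK := Module.finBasis (frobenius k p).fieldRange k
  obtain ⟨G, hG, rfl⟩ := H1JacAbs.exists_decomp p (frobenius k p).fieldRange (fun l => bK l)
    (fun y => ⟨fun l => (bK.repr y l : k), fun l => (bK.repr y l).2, bK.sum_repr y⟩) g
  refine sum_mem fun x _ => mul_mem ?_ ?_
  · have : ∀ P : MvPolynomial (Fin n) k, (P : MvPowerSeries (Fin n) k) ∈ S := by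
      intro P
      induction P using MvPolynomial.induction_on with
      | C a => rw [MvPolynomial.coe_C]; exact hC a
      | add a b ha hb => rw [MvPolynomial.coe_add]; exact add_mem ha hb
      | mul_X a i ha => rw [MvPolynomial.coe_mul, MvPolynomial.coe_X]; exact mul_mem ha (hX i)
    rw [← MvPolynomial.coe_monomial]
    exact this _
  · obtain ⟨h, hh⟩ := H1JacAbs.exists_root p (G x) (fun m => by
      obtain ⟨a, ha⟩ := (hG x m).1
      exact ⟨a, ha⟩) (fun m hm => (hG x m).2 hm)
    rw [← hh]
    exact hpow h

variable {C : Type u} [CommRing C] [IsDomain C] [Algebra k C] (w : MvPowerSeries (Fin n) k →ₐ[k] C)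
  (M : Type u) [Field M] [Algebra (MvPowerSeries (Fin n) k) M] [IsFractionRing (MvPowerSeries (Fin n) k) M]
  [Algebra k M] [IsScalarTower k (MvPowerSeries (Fin n) k) M]
  (L : Type u) [Field L] [Algebra k L] [Algebra M L] [IsScalarTower k M L]

/-- The classes of the differentials of the variables. -/
noncomputable def dX (j : Fin n) : Q k M L :=
  Submodule.Quotient.mk ((1 : L) ⊗ₜ D ℤ M (algebraMap (MvPowerSeries (Fin n) k) M (MvPowerSeries.X j)))

omit [Fact p.Prime] [CharP k p] in
theorem dX_independent : LinearIndependent L (dX (k := k) (n := n) M L) := by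
  classical
  haveI : IsDomain (MvPowerSeries (Fin n) k) := NoZeroDivisors.to_isDomain _
  have hder : ∀ j : Fin n, ∃ D' : Derivation ℤ M M, ∀ g : MvPowerSeries (Fin n) k,
      D' (algebraMap _ M g) = algebraMap _ M (MvPowerSeries.pderiv k j g) := fun j =>
    H1JacPS.exists_derivation_loc (S := k) (nonZeroDivisors (MvPowerSeries (Fin n) k)) (MvPowerSeries.pderiv k j)
  choose D' hD' using hder
  let dj : Fin n → Derivation ℤ M L := fun j => (Algebra.linearMap M L).compDer (D' j)
  let Λ : Fin n → (L ⊗[M] Ω[M⁄ℤ] →ₗ[L] L) := fun j => LinearMap.liftBaseChange L (dj j).liftKaehlerDifferential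
  have hΛ : ∀ j, LinearMap.range (a k M L) ≤ LinearMap.ker (Λ j) := by
    rintro j _ ⟨z, rfl⟩
    rw [LinearMap.mem_ker]
    induction z using TensorProduct.induction_on with
    | zero => simp
    | add x y hx hy => rw [map_add, map_add, hx, hy, add_zero]
    | tmul l v =>
      have hv : v ∈ Submodule.span k (Set.range (D ℤ k)) := (span_range_derivation ℤ k).symm ▸ Submodule.mem_top
      induction hv using Submodule.span_induction generalizing l with
      | mem d hd =>
        obtain ⟨c, rfl⟩ := hd
        rw [a_tmul_D]
        simp only [Λ, LinearMap.liftBaseChange_tmul, Derivation.liftKaehlerDifferential_comp_D]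
        have h0 : D' j (algebraMap k M c) = 0 := by
          rw [IsScalarTower.algebraMap_apply k (MvPowerSeries (Fin n) k) M, hD', Derivation.map_algebraMap, map_zero]
        show l • algebraMap M L (D' j (algebraMap k M c)) = 0
        rw [h0, map_zero, smul_zero]
      | zero => simp
      | add x y _ _ hx hy => rw [tmul_add, map_add, map_add, hx, hy, add_zero]
      | smul c x _ hx => rw [← smul_tmul, hx]
  rw [Fintype.linearIndependent_iff]
  intro c hc i
  have h1 := congrArg ((LinearMap.range (a k M L)).liftQ (Λ i) (hΛ i)) hc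
  rw [map_sum, map_zero] at h1
  have h2 : ∀ j, (LinearMap.range (a k M L)).liftQ (Λ i) (hΛ i) (c j • dX M L j) = if j = i then c j else 0 := by
    intro j
    rw [map_smul]
    show c j • Λ i ((1 : L) ⊗ₜ[M] D ℤ M (algebraMap (MvPowerSeries (Fin n) k) M (MvPowerSeries.X j))) = _
    simp only [Λ, LinearMap.liftBaseChange_tmul, Derivation.liftKaehlerDifferential_comp_D, one_smul]
    show c j • algebraMap M L (D' i _) = _
    rw [hD']
    rcases eq_or_ne j i with rfl | hne
    · rw [MvPowerSeries.pderiv_X_self, map_one, map_one, if_pos rfl, smul_eq_mul, mul_one]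
    · rw [MvPowerSeries.pderiv_X_of_ne hne, map_zero, map_zero, smul_zero, if_neg hne]
  rw [Finset.sum_congr rfl fun j _ => h2 j, Finset.sum_ite_eq' Finset.univ i c, if_pos (Finset.mem_univ i)] at h1
  exact h1

theorem dX_span [FiniteDimensional (frobenius k p).fieldRange k] :
    Submodule.span L (Set.range (dX (k := k) (n := n) M L)) = ⊤ := by
  classical
  haveI : IsDomain (MvPowerSeries (Fin n) k) := NoZeroDivisors.to_isDomain _
  haveI : CharP M p := charP_of_injective_algebraMap (algebraMap k M).injective p
  set W := Submodule.span L (Set.range (dX (k := k) (n := n) M L))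
  let cl : M → Q k M L := fun m => Submodule.Quotient.mk ((1 : L) ⊗ₜ D ℤ M m)
  have hmul : ∀ x y, cl (x * y) = algebraMap M L x • cl y + algebraMap M L y • cl x := fun x y => by
    show Submodule.Quotient.mk _ = _
    rw [Derivation.leibniz, tmul_add, tmul_smul, tmul_smul, ← algebraMap_smul L x ((1 : L) ⊗ₜ[M] D ℤ M y),
      ← algebraMap_smul L y ((1 : L) ⊗ₜ[M] D ℤ M x), Submodule.Quotient.mk_add, Submodule.Quotient.mk_smul,
      Submodule.Quotient.mk_smul]
  have hconst : ∀ c : k, cl (algebraMap k M c) = 0 := fun c =>
    (Submodule.Quotient.mk_eq_zero _).2 ⟨(1 : L) ⊗ₜ D ℤ k c, a_tmul_D k M L 1 c⟩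
  have hadd : ∀ x y, cl (x + y) = cl x + cl y := fun x y => by
    show Submodule.Quotient.mk _ = _
    rw [map_add, tmul_add, Submodule.Quotient.mk_add]
  let S : Subfield M :=
    { carrier := {m | cl m ∈ W}
      one_mem' := by
        show cl 1 ∈ W
        rw [← map_one (algebraMap k M), hconst]
        exact zero_mem _
      zero_mem' := by
        show cl 0 ∈ W
        rw [← map_zero (algebraMap k M), hconst]
        exact zero_mem _
      add_mem' := fun {x y} hx hy => by
        show cl (x + y) ∈ W
        rw [hadd]; exact add_mem hx hy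
      neg_mem' := fun {x} hx => by
        show cl (-x) ∈ W
        have h1 := hadd x (-x)
        rw [add_neg_cancel, ← map_zero (algebraMap k M), hconst] at h1
        rw [eq_neg_of_add_eq_zero_right h1.symm]
        exact neg_mem hx
      mul_mem' := fun {x y} hx hy => by
        show cl (x * y) ∈ W
        rw [hmul]; exact add_mem (W.smul_mem _ hy) (W.smul_mem _ hx)
      inv_mem' := fun x hx => by
        show cl x⁻¹ ∈ W
        rcases eq_or_ne x 0 with rfl | hx0
        · rw [inv_zero, ← map_zero (algebraMap k M), hconst]
          exact zero_mem _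
        have h1 := hmul x x⁻¹
        rw [mul_inv_cancel₀ hx0, ← map_one (algebraMap k M), hconst] at h1
        have h2 : algebraMap M L x • cl x⁻¹ ∈ W := by
          rw [eq_neg_of_add_eq_zero_left h1.symm]
          exact neg_mem (W.smul_mem _ hx)
        exact (W.smul_mem_iff (by simpa using hx0)).1 h2 }
  have hall : ∀ m, m ∈ S := by
    intro m
    obtain ⟨f, g, -, rfl⟩ := IsFractionRing.div_surjective (MvPowerSeries (Fin n) k) m
    have hgen : ∀ g : MvPowerSeries (Fin n) k, g ∈ S.toSubring.comap (algebraMap _ M) := by
      refine mem_of_generators p _ (fun c => ?_) (fun j => Submodule.subset_span ⟨j, rfl⟩) (fun h => ?_)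
      · show cl _ ∈ W
        rw [show (MvPowerSeries.C c : MvPowerSeries (Fin n) k) = algebraMap k _ c by
          simp [MvPowerSeries.algebraMap_apply], ← IsScalarTower.algebraMap_apply, hconst]
        exact zero_mem _
      · show cl _ ∈ W
        have h0 : D ℤ M (algebraMap (MvPowerSeries (Fin n) k) M (h ^ p)) = 0 := by
          rw [map_pow, Derivation.leibniz_pow, ← Nat.cast_smul_eq_nsmul M p, CharP.cast_eq_zero, zero_smul]
        show Submodule.Quotient.mk _ ∈ W
        rw [h0, tmul_zero, Submodule.Quotient.mk_zero]
        exact zero_mem _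
    exact div_mem (hgen f) (hgen g)
  rw [eq_top_iff]
  intro z hz
  clear hz
  obtain ⟨z, rfl⟩ := Submodule.Quotient.mk_surjective _ z
  induction z using TensorProduct.induction_on with
  | zero => rw [Submodule.Quotient.mk_zero]; exact zero_mem _
  | add x y hx hy => rw [Submodule.Quotient.mk_add]; exact add_mem hx hy
  | tmul l v =>
    have hv : v ∈ Submodule.span M (Set.range (D ℤ M)) := (span_range_derivation ℤ M).symm ▸ Submodule.mem_top
    induction hv using Submodule.span_induction generalizing l with
    | mem d hd =>
      obtain ⟨m, rfl⟩ := hd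
      rw [show l ⊗ₜ[M] D ℤ M m = l • ((1 : L) ⊗ₜ[M] D ℤ M m) by rw [smul_tmul', smul_eq_mul, mul_one],
        Submodule.Quotient.mk_smul]
      exact W.smul_mem _ (hall m)
    | zero => rw [tmul_zero, Submodule.Quotient.mk_zero]; exact zero_mem _
    | add x y _ _ hx hy => rw [tmul_add, Submodule.Quotient.mk_add]; exact add_mem (hx l) (hy l)
    | smul c x _ hx => rw [← smul_tmul]; exact hx _

/-- The differentials of the ring and of its fraction field are finitely generated. -/
theorem finite_kaehler [FiniteDimensional (frobenius k p).fieldRange k] (hfin : w.toRingHom.Finite)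
    [Algebra C L] [IsFractionRing C L] [IsScalarTower k C L] :
    Module.Finite C Ω[C⁄k] ∧ Module.Finite L Ω[L⁄k] := by
  classical
  obtain ⟨m, gC, hgC⟩ : ∃ (m : ℕ) (gC : Fin m → C),
      ∀ x : C, ∃ c : Fin m → MvPowerSeries (Fin n) k, ∑ l, w (c l) * gC l = x := by
    letI : Algebra (MvPowerSeries (Fin n) k) C := w.toRingHom.toAlgebra
    haveI : Module.Finite (MvPowerSeries (Fin n) k) C := hfin
    obtain ⟨m, gC, hg⟩ := Module.Finite.exists_fin (R := MvPowerSeries (Fin n) k) (M := C)
    refine ⟨m, gC, fun x => ?_⟩
    obtain ⟨c, hc⟩ := (Submodule.mem_span_range_iff_exists_fun _).1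
      (show x ∈ Submodule.span (MvPowerSeries (Fin n) k) (Set.range gC) by rw [hg]; exact Submodule.mem_top)
    exact ⟨c, hc⟩
  let U : Finset C := Finset.univ.image (fun j => w (MvPowerSeries.X j)) ∪ Finset.univ.image gC
  haveI : CharP C p := charP_of_injective_algebraMap (algebraMap k C).injective p
  have hall : ∀ x : C, D k C x ∈ Submodule.span C (D k C '' (U : Set C)) := by
    set W2 := Submodule.span C (D k C '' (U : Set C))
    let S : Subring C :=
      { carrier := {x | D k C x ∈ W2}
        one_mem' := by show D k C 1 ∈ W2; rw [Derivation.map_one_eq_zero]; exact zero_mem _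
        zero_mem' := by show D k C 0 ∈ W2; rw [map_zero]; exact zero_mem _
        add_mem' := fun {x y} hx hy => by show D k C (x + y) ∈ W2; rw [map_add]; exact add_mem hx hy
        neg_mem' := fun {x} hx => by show D k C (-x) ∈ W2; rw [map_neg]; exact neg_mem hx
        mul_mem' := fun {x y} hx hy => by
          show D k C (x * y) ∈ W2
          rw [Derivation.leibniz]
          exact add_mem (Submodule.smul_mem _ _ hy) (Submodule.smul_mem _ _ hx) }
    have hP : ∀ g, g ∈ S.comap w.toRingHom := by
      refine mem_of_generators p _ (fun c => ?_) (fun j => ?_) (fun h => ?_)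
      · show D k C (w (MvPowerSeries.C c)) ∈ W2
        rw [show (MvPowerSeries.C c : MvPowerSeries (Fin n) k) = algebraMap k _ c by
          simp [MvPowerSeries.algebraMap_apply], w.commutes, Derivation.map_algebraMap]
        exact zero_mem _
      · exact Submodule.subset_span ⟨_, Finset.mem_union_left _ (Finset.mem_image_of_mem _ (Finset.mem_univ j)), rfl⟩
      · show D k C (w (h ^ p)) ∈ W2
        rw [map_pow, Derivation.leibniz_pow, ← Nat.cast_smul_eq_nsmul C p, CharP.cast_eq_zero, zero_smul]
        exact zero_mem _
    intro x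
    obtain ⟨c, rfl⟩ := hgC x
    exact (sum_mem fun l _ => mul_mem (hP (c l)) (Submodule.subset_span
      ⟨_, Finset.mem_union_right _ (Finset.mem_image_of_mem _ (Finset.mem_univ l)), rfl⟩ :
        gC l ∈ S) : ∑ l, w (c l) * gC l ∈ S)
  refine ⟨⟨⟨(U.image (D k C)), ?_⟩⟩, ⟨⟨(U.image fun x => D k L (algebraMap C L x)), ?_⟩⟩⟩
  · rw [eq_top_iff, ← span_range_derivation k C, Submodule.span_le, Finset.coe_image]
    rintro _ ⟨x, rfl⟩
    exact hall x
  · rw [eq_top_iff, ← span_range_derivation k L, Submodule.span_le, Finset.coe_image]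
    rintro _ ⟨x, rfl⟩
    have hC : ∀ y : C, D k L (algebraMap C L y) ∈
        Submodule.span L ((fun z => D k L (algebraMap C L z)) '' (U : Set C)) := by
      intro y
      have h1 := Submodule.mem_map_of_mem (f := KaehlerDifferential.map k k C L) (hall y)
      rw [Submodule.map_span, ← Set.image_comp, map_D] at h1
      refine Submodule.span_le_restrictScalars C L _ ?_
      convert h1 using 3
      exact (map_D k k C L _).symm
    obtain ⟨a, b, hb, rfl⟩ := IsFractionRing.div_surjective C x
    rw [SetLike.mem_coe, Derivation.leibniz_div]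
    exact Submodule.smul_mem _ _ (sub_mem (Submodule.smul_mem _ _ (hC a)) (Submodule.smul_mem _ _ (hC b)))

end H1ImpCpl
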