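import Mathlib
import Groth.Agent.H1ImpCpl.PS
import Groth.Agent.EGA41Lib.IntDim

/-!
# Normalisation data for a complete local domain over a field
-/

set_option autoImplicit false
set_option backward.isDefEq.respectTransparency false
set_option backward.isDefEq.respectTransparency.types false

universe u

namespace H1ImpCpl

/-- A complete local domain sits over a power series ring of the same dimension. -/
theorem exists_setup (k C L : Type u) [Field k] [CommRing C] [IsDomain C] [IsNoetherianRing C] [IsLocalRing C]
    [Algebra k C] [IsAdicComplete (IsLocalRing.maximalIdeal C) C]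
    [Module.Finite k (IsLocalRing.ResidueField C)] (n : ℕ) (hn : ringKrullDim C = n)
    [Field L] [Algebra C L] [IsFractionRing C L] [Algebra k L] [IsScalarTower k C L] :
    ∃ (w : MvPowerSeries (Fin n) k →ₐ[k] C), w.toRingHom.Finite ∧
      ∃ (_ : Algebra (FractionRing (MvPowerSeries (Fin n) k)) L),
        IsScalarTower k (FractionRing (MvPowerSeries (Fin n) k)) L ∧
        FiniteDimensional (FractionRing (MvPowerSeries (Fin n) k)) L := by
  classical
  obtain ⟨s, w, hwinj, -, hwfin⟩ := Groth.Agent.Cohen4.exists_normalization (k₀ := k) (A := C)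
  letI : Algebra (MvPowerSeries (Fin s) k) C := w.toRingHom.toAlgebra
  haveI : Module.Finite (MvPowerSeries (Fin s) k) C := hwfin
  haveI : Algebra.IsIntegral (MvPowerSeries (Fin s) k) C := Algebra.IsIntegral.of_finite _ _
  have hsn : s = n := by
    have h1 := Groth.Agent.EGA41Lib.ringKrullDim_eq_of_integral (A := MvPowerSeries (Fin s) k) (B := C) hwinj
    rw [hn, Groth.Agent.PSLib.ringKrullDim_eq] at h1
    exact_mod_cast h1.symm
  subst hsn
  haveI : IsDomain (MvPowerSeries (Fin s) k) := NoZeroDivisors.to_isDomain _
  let g₀ : MvPowerSeries (Fin s) k →+* L := (algebraMap C L).comp w.toRingHom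
  have hg₀ : Function.Injective g₀ := (IsFractionRing.injective C L).comp hwinj
  let φ : FractionRing (MvPowerSeries (Fin s) k) →+* L := IsFractionRing.lift hg₀
  letI iL : Algebra (FractionRing (MvPowerSeries (Fin s) k)) L := φ.toAlgebra
  refine ⟨w, hwfin, iL, IsScalarTower.of_algebraMap_eq' (RingHom.ext fun c => ?_),
    H1JacAbs.finite_fractionField (R := C) φ fun g => IsFractionRing.lift_algebraMap hg₀ g⟩
  show algebraMap k L c = φ (algebraMap k _ c)
  rw [IsScalarTower.algebraMap_apply k (MvPowerSeries (Fin s) k) (FractionRing (MvPowerSeries (Fin s) k))]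
  show algebraMap k L c = φ _
  rw [IsFractionRing.lift_algebraMap]
  show _ = algebraMap C L (w (algebraMap k _ c))
  rw [w.commutes, ← IsScalarTower.algebraMap_apply]

end H1ImpCpl
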